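import Cfsg.Agent.Mrg.Omega.NO3S.EMany.LowExt
import Cfsg.Agent.Mrg.Omega.KL.Mor
import Cfsg.Agent.Mrg.Omega.EK3.FK.Fr

-- merged: Cfsg.Agent.Mrg.Omega.EK3.FK.Plug
section

/-!
# The end at group level, two fixed vectors of order 2

`GInE T C N N₀ Z Sy F x p` : `C` acts on `M := N / Z` (`N` elementary abelian, `Z ≤ N` centralised by `C`),
`N₀ = ⟨x^C⟩ ≤ N`, `T` a Sylow 2-subgroup of `C`, `C_C(x)` is the stabiliser of `x̄`, `Sy` the stabiliser of `p̄`; every
`T`-minimal `R ≤ C` centralises `x` or fixes `p̄`; `F ≤ O₂(C_C(x)) ∩ O₂(Sy)` elementary abelian, moves `N₀`,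
`|N : C_N(F)| ≤ |F : C_F(N₀)|`.

* `GInE.exists_act`, **`GInE.false`** : contradiction.
-/

set_option autoImplicit false

namespace Cfsg.Agent.Omega.EK3.FK

open Subgroup Cfsg Cfsg.Agent.ZN
open Cfsg.Agent.ClassTwoFusion.Quad Cfsg.Agent.Omega.ML.MinFrame Cfsg.Agent.Omega.ML.Final
open Cfsg.Agent.Omega.KL.PlugG (comm_of_sq minPar_map sub_o2)
open Cfsg.Agent.MinSimple.MinParabolic (IsMinPar)
open Cfsg.Agent.MinSimple.VModule (o2_isPGroup o2_le le_o2 le_normalizer_o2 o2_le_of_sylow)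

universe u

variable {G : Type u} [Group G]

/-- **The input at group level** -/
structure GInE (T C N N₀ Z Sy F : Subgroup G) (x p : G) : Prop where
  TC : T ≤ C
  two : IsPGroup 2 T
  syl : ¬ 2 ∣ T.relIndex C
  sq : ∀ n ∈ N, n * n = 1
  CN : C ≤ normalizer (N : Set G)
  ZN : Z ≤ N
  CZ : ∀ c ∈ C, ∀ z ∈ Z, c * z = z * c
  xN₀ : x ∈ N₀
  CN₀ : C ≤ normalizer (N₀ : Set G)
  N₀N : N₀ ≤ N
  min : ∀ U : Subgroup G, x ∈ U → C ≤ normalizer (U : Set G) → N₀ ≤ U
  pN : p ∈ N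
  stx : ∀ c ∈ C, c * x * c⁻¹ * x⁻¹ ∈ Z → c * x = x * c
  sty : ∀ c ∈ C, (c ∈ Sy ↔ c * p * c⁻¹ * p⁻¹ ∈ Z)
  nx : ∀ g ∈ C, g ∈ normalizer (T : Set G) → g * x = x * g
  ty : T ≤ Sy
  uni : ∀ R : Subgroup G, IsMinPar T R → R ≤ C → (∀ r ∈ R, r * x = x * r) ∨ R ≤ Sy
  el : ∀ a ∈ F, a * a = 1
  Ax : F ≤ o2 (C ⊓ centralizer ({x} : Set G))
  Ay : F ≤ o2 Sy
  mv : ¬ F ≤ centralizer (N₀ : Set G)
  ex : (centralizer (F : Set G)).relIndex N ≤ (centralizer (N₀ : Set G)).relIndex F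
  KC : IsKGroup C

namespace GInE

variable [Finite G] {T C N N₀ Z Sy F : Subgroup G} {x p : G} (h : GInE T C N N₀ Z Sy F x p)
include h

theorem exists_act : ∃ (M : Type u) (_ : Group M) (_ : Finite M) (_ : MulDistribMulAction C M) (x' y' : M),
    ActE (T.subgroupOf C) (F.subgroupOf C) x' y' := by
  have hCZc : ∀ c ∈ C, ∀ z ∈ Z, c * z * c⁻¹ = z := by
    intro c hc z hz
    rw [h.CZ c hc z hz, mul_inv_cancel_right]
  have hCZ : C ≤ normalizer (Z : Set G) := by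
    intro c hc
    rw [mem_normalizer_iff]
    intro z
    refine ⟨fun hz => by rw [hCZc c hc z hz]; exact hz, fun hz => ?_⟩
    have h1 := hCZc c⁻¹ (inv_mem hc) _ hz
    have e : c⁻¹ * (c * z * c⁻¹) * c⁻¹⁻¹ = z := by group
    rw [e] at h1
    rw [h1]
    exact hz
  have hnor : (Z.subgroupOf N).Normal := by
    refine normal_subgroupOf_of_le_normalizer fun n hn => ?_
    rw [mem_normalizer_iff]
    intro z
    have hc : ∀ a ∈ N, ∀ b ∈ N, a * b = b * a := fun a ha b hb => comm_of_sq h.sq ha hb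
    constructor
    · intro hz
      rwa [hc n hn z (h.ZN hz), mul_inv_cancel_right]
    · intro hz
      have h1 := hc n hn _ (h.ZN hz)
      have e : n * z * n⁻¹ = z := by
        have e1 : n * (n * z * n⁻¹) = n * z := by rw [h1]; group
        exact mul_left_cancel e1
      rwa [e] at hz
  let _ := ML.Final.conjAct h.CN hCZ
  let mk : N →* N ⧸ Z.subgroupOf N := QuotientGroup.mk' (Z.subgroupOf N)
  have hmk : Function.Surjective mk := QuotientGroup.mk'_surjective _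
  have hmem : ∀ (g : C) (n : N), (g : G) * n * (g : G)⁻¹ ∈ N := fun g n =>
    (mem_normalizer_iff.1 (h.CN g.2) n).1 n.2
  have hsm : ∀ (g : C) (n : N), g • mk n = mk ⟨(g : G) * n * (g : G)⁻¹, hmem g n⟩ := fun _ _ => rfl
  have hone : ∀ a b : N, mk a = mk b ↔ (a : G) * (b : G)⁻¹ ∈ Z := by
    intro a b
    rw [← mul_inv_eq_one, ← map_inv, ← map_mul, ← MonoidHom.mem_ker, QuotientGroup.ker_mk']
    exact Iff.rfl
  have hfix : ∀ (g : C) (n : N), g • mk n = mk n ↔ (g : G) * n * (g : G)⁻¹ * (n : G)⁻¹ ∈ Z := by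
    intro g n
    rw [hsm, hone]
  have hxN : x ∈ N := h.N₀N h.xN₀
  set x' : N ⧸ Z.subgroupOf N := mk ⟨x, hxN⟩ with hx
  set y' : N ⧸ Z.subgroupOf N := mk ⟨p, h.pN⟩ with hy
  have hcom : ∀ {a b : G}, a * b = b * a → a * b * a⁻¹ * b⁻¹ ∈ Z := by
    intro a b e
    rw [e, mul_inv_cancel_right, mul_inv_cancel]
    exact one_mem _
  have hsub : ∀ {X : Subgroup G}, T ≤ X → X ≤ C → ¬ 2 ∣ T.relIndex X := fun {X} h1 h2 h3 =>
    h.syl (h3.trans (Dvd.intro _ (relIndex_mul_relIndex T X C h1 h2)))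
  have hTx : T ≤ C ⊓ centralizer ({x} : Set G) := le_inf h.TC fun t ht =>
    mem_centralizer_singleton_iff.2 (h.nx t (h.TC ht) (Subgroup.le_normalizer ht))
  have hFT : F ≤ T := h.Ax.trans (o2_le_of_sylow h.two (hsub hTx inf_le_left))
  have hFC : F ≤ C := hFT.trans h.TC
  -- the kernel on `⟨x̄^C⟩`
  have hker : ∀ c : C, c ∈ fxr C (orb (⊤ : Subgroup C) x') ↔ (c : G) ∈ centralizer (N₀ : Set G) := by
    intro c
    rw [mem_fxr_orb]
    have hgx : ∀ g : C, g • x' = mk ⟨(g : G) * x * (g : G)⁻¹, hmem g ⟨x, hxN⟩⟩ := fun g => hsm g ⟨x, hxN⟩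
    constructor
    · intro hc
      set K : Set G := {k | k ∈ C ∧ ∀ g ∈ C, k * (g * x * g⁻¹) * k⁻¹ * (g * x * g⁻¹)⁻¹ ∈ Z} with hK
      have hKC : ∀ g ∈ C, ∀ k ∈ K, g⁻¹ * k * g ∈ K := by
        rintro g hg k ⟨hk, hk2⟩
        refine ⟨mul_mem (mul_mem (inv_mem hg) hk) hg, fun a ha => ?_⟩
        have h1 := hk2 _ (mul_mem hg ha)
        have h2 := (mem_normalizer_iff.1 (hCZ (inv_mem hg)) _).1 h1
        have e : g⁻¹ * (k * (g * a * x * (g * a)⁻¹) * k⁻¹ * (g * a * x * (g * a)⁻¹)⁻¹) * g⁻¹⁻¹ =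
            g⁻¹ * k * g * (a * x * a⁻¹) * (g⁻¹ * k * g)⁻¹ * (a * x * a⁻¹)⁻¹ := by group
        rwa [e] at h2
      have h1 : N₀ ≤ centralizer K := by
        refine h.min _ ?_ ?_
        · rw [mem_centralizer_iff]
          rintro k ⟨hk, hk2⟩
          refine h.stx k hk ?_
          have := hk2 1 (one_mem _)
          simpa using this
        · intro g hg
          have key : ∀ g ∈ C, ∀ u ∈ centralizer K, g * u * g⁻¹ ∈ centralizer K := by
            intro g hg u hu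
            rw [mem_centralizer_iff] at hu ⊢
            intro k hk
            have h2 := hu _ (hKC g hg k hk)
            calc k * (g * u * g⁻¹) = g * ((g⁻¹ * k * g) * u) * g⁻¹ := by group
              _ = g * (u * (g⁻¹ * k * g)) * g⁻¹ := by rw [h2]
              _ = g * u * g⁻¹ * k := by group
          rw [mem_normalizer_iff]
          intro u
          refine ⟨key g hg u, fun hu => ?_⟩
          have h2 := key g⁻¹ (inv_mem hg) _ hu
          have e : g⁻¹ * (g * u * g⁻¹) * g⁻¹⁻¹ = u := by group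
          rwa [e] at h2
      rw [mem_centralizer_iff]
      intro n hn
      refine (mem_centralizer_iff.1 (h1 hn) c ⟨c.2, fun g hg => ?_⟩).symm
      have h2 := hc ⟨g, hg⟩ (mem_top _)
      rw [hgx] at h2
      exact (hfix c _).1 h2
    · intro hc g _
      rw [hgx, hfix]
      refine hcom (mem_centralizer_iff.1 hc _ ?_).symm
      exact (mem_normalizer_iff.1 (h.CN₀ g.2) x).1 h.xN₀
  -- the stabilisers
  have hsx : ∀ c : C, c ∈ MulAction.stabilizer C x' ↔ (c : G) ∈ C ⊓ centralizer ({x} : Set G) := by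
    intro c
    rw [MulAction.mem_stabilizer_iff, hfix, mem_inf, mem_centralizer_singleton_iff]
    exact ⟨fun h1 => ⟨c.2, h.stx c c.2 h1⟩, fun h1 => hcom h1.2⟩
  have hsy : ∀ c : C, c ∈ MulAction.stabilizer C y' ↔ (c : G) ∈ Sy := by
    intro c
    rw [MulAction.mem_stabilizer_iff, hfix]
    exact (h.sty c c.2).symm
  -- `N_C(T)`
  have hnT : ∀ g ∈ normalizer (T.subgroupOf C : Set C), (g : G) ∈ C ⊓ normalizer (T : Set G) := by
    intro g hg
    refine mem_inf.2 ⟨g.2, ?_⟩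
    rw [mem_normalizer_iff]
    intro t
    constructor
    · intro ht
      exact (mem_normalizer_iff.1 hg ⟨t, h.TC ht⟩).1 ht
    · intro ht
      have h1 : (g : G)⁻¹ * ((g : G) * t * (g : G)⁻¹) * (g : G)⁻¹⁻¹ ∈ T :=
        (mem_normalizer_iff.1 (inv_mem hg) ⟨(g : G) * t * (g : G)⁻¹, h.TC ht⟩).1 ht
      have e : (g : G)⁻¹ * ((g : G) * t * (g : G)⁻¹) * (g : G)⁻¹⁻¹ = t := by group
      rwa [e] at h1
  -- the index of the fixed space
  have hcvle : (centralizer (F : Set G)).subgroupOf N ≤ (cv (N ⧸ Z.subgroupOf N) (F.subgroupOf C : Set C)).comap mk := by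
    intro n hn a ha
    refine (hfix a n).2 ?_
    exact hcom (mem_centralizer_iff.1 (mem_subgroupOf.1 hn) a (mem_subgroupOf.1 ha))
  have hfxr : fxr C (orb (⊤ : Subgroup C) x') = (centralizer (N₀ : Set G)).subgroupOf C := by
    ext c
    rw [mem_subgroupOf, ← hker]
  have hle : (cv (N ⧸ Z.subgroupOf N) (F.subgroupOf C : Set C)).index ≤
      (fxr C (orb (⊤ : Subgroup C) x')).relIndex (F.subgroupOf C) := by
    rw [hfxr, relIndex_subgroupOf hFC, ← index_comap_of_surjective _ hmk]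
    exact (index_antitone hcvle).trans h.ex
  refine ⟨N ⧸ Z.subgroupOf N, inferInstance, inferInstance, inferInstance, x', y', ?_⟩
  refine
    { sq := ?_
      two := h.two.comap_of_injective C.subtype C.subtype_injective
      syl := h.syl
      el := fun a ha => Subtype.ext (h.el a (mem_subgroupOf.1 ha))
      nx := ?_
      ty := ?_
      Ax := sub_o2 hsx h.Ax
      Ay := sub_o2 hsy h.Ay
      uni := ?_
      mv := ?_
      ex := hle
      KX := h.KC }
  · intro m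
    obtain ⟨n, rfl⟩ := hmk m
    rw [← map_mul, ← map_one mk, hone]
    have h1 : (n : G) * n = 1 := h.sq n n.2
    simp [h1]
  · intro g hg
    have h1 := hnT g hg
    exact MulAction.mem_stabilizer_iff.1 ((hsx g).2 (mem_inf.2 ⟨h1.1, mem_centralizer_singleton_iff.2 (h.nx g h1.1 h1.2)⟩))
  · intro t ht
    exact MulAction.mem_stabilizer_iff.1 ((hsy t).2 (h.ty (mem_subgroupOf.1 ht)))
  · intro P hP
    rcases h.uni _ (minPar_map h.TC hP) (map_subtype_le P) with h1 | h1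
    · left
      intro q hq
      exact MulAction.mem_stabilizer_iff.1 ((hsx q).2 (mem_inf.2 ⟨q.2,
        mem_centralizer_singleton_iff.2 (h1 q (mem_map_of_mem C.subtype hq))⟩))
    · right
      intro q hq
      exact MulAction.mem_stabilizer_iff.1 ((hsy q).2 (h1 (mem_map_of_mem C.subtype hq)))
  · intro hc
    apply h.mv
    intro a ha
    exact (hker ⟨a, hFC ha⟩).1 (hc (mem_subgroupOf.2 ha))

/-- **contradiction** -/
theorem false (hM : MLK.{u, u}) (hE : ML.Ex.Two.Ext.{u, u}) : False := by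
  obtain ⟨M, _, _, _, x', y', hA⟩ := h.exists_act
  exact hA.false hM hE

end GInE

end Cfsg.Agent.Omega.EK3.FK

end

-- merged: Cfsg.Agent.Mrg.Omega.EK3.FK.End
section

/-!
# (4F-K): the end

`F` from STAR, `E = ⟨Z_T^⟨Y_i, Y_j⟩⟩`, `ζ ∈ Z_i − ⟨z_i⟩`: `GInE` for `C = Y_j` on `E / ⟨z_l : l ≠ j⟩`, `x = z_j`, `p = ζ`.

* **`FrK.false_of`**.
-/

set_option autoImplicit false
set_option linter.unusedSectionVars false

namespace Cfsg.Agent.Omega.EK3.FK

open Subgroup Cfsg Cfsg.Agent.ZN.ChoiceBase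
open Cfsg.Agent.ZN (jj zj bau zc zl o2)
open Cfsg.Agent.ZN.ChoiceSit (Syl exists_syl syl_conj)
open Cfsg.Agent.Omega.NO3S.EThree.Frame
open Cfsg.Agent.Omega.NO3S.EThree.ExactA (eab_mono eab_iff)
open Cfsg.Agent.Omega.Node.MultiOf
open Cfsg.Agent.Omega.EK3.StarE
open Cfsg.Agent.Omega.ML.Final (MLK)
open Cfsg.Agent.MinSimple.MinParabolic (IsMinPar le_of_forall)
open Cfsg.Agent.MinSimple.VModule (o2_isPGroup le_o2 le_normalizer_o2 o2_le_of_sylow)

universe u

variable {G : Type u} [Group G] {k : ℕ}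

/-- `⟨z_l : l ≠ j⟩` -/
def ZC (z : Fin k → G) (j : Fin k) : Subgroup G := closure (z '' {j}ᶜ)

theorem z_ZC {z : Fin k → G} {i j : Fin k} (hij : i ≠ j) : z i ∈ ZC z j := subset_closure ⟨i, hij, rfl⟩

theorem ZC_ZT {z : Fin k → G} {j : Fin k} : ZC z j ≤ ZT z := closure_mono (Set.image_subset_range _ _)

theorem YY_ZC {z : Fin k → G} {j : Fin k} {c u : G} (hc : c ∈ YY z j) (hu : u ∈ ZC z j) : c * u = u * c := by
  have h1 : ZC z j ≤ centralizer (YY z j : Set G) := by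
    unfold ZC
    rw [closure_le]
    rintro _ ⟨l, hl, rfl⟩
    exact mem_centralizer_iff.2 fun x hx => mem_YY.1 hx l hl
  exact mem_centralizer_iff.1 (h1 hu) c hc

/-- the stabiliser in `Y_j` of `p ⟨z_l : l ≠ j⟩` -/
def St (z : Fin k → G) (j : Fin k) (p : G) : Subgroup G where
  carrier := {c | c ∈ YY z j ∧ c * p * c⁻¹ * p⁻¹ ∈ ZC z j}
  one_mem' := ⟨one_mem _, by simp⟩
  mul_mem' := by
    rintro a b ⟨ha, ha'⟩ ⟨hb, hb'⟩
    refine ⟨mul_mem ha hb, ?_⟩
    have e : a * b * p * (a * b)⁻¹ * p⁻¹ = a * (b * p * b⁻¹ * p⁻¹) * a⁻¹ * (a * p * a⁻¹ * p⁻¹) := by group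
    rw [e, YY_ZC ha hb', mul_inv_cancel_right]
    exact mul_mem hb' ha'
  inv_mem' := by
    rintro a ⟨ha, ha'⟩
    refine ⟨inv_mem ha, ?_⟩
    have e : a⁻¹ * p * a⁻¹⁻¹ * p⁻¹ = a⁻¹ * (a * p * a⁻¹ * p⁻¹)⁻¹ * a := by group
    rw [e, YY_ZC (inv_mem ha) (inv_mem ha'), inv_mul_cancel_right]
    exact inv_mem ha'

theorem mem_St {z : Fin k → G} {j : Fin k} {p c : G} :
    c ∈ St z j p ↔ c ∈ YY z j ∧ c * p * c⁻¹ * p⁻¹ ∈ ZC z j := Iff.rfl

namespace FrK

variable [Finite G] {S : Sylow 2 G} {P K B ZJ : Subgroup G} {L W Z C : Fin k → Subgroup G} {z : Fin k → G}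
  (h : FrK S P K B ZJ L W Z C z)
include h

theorem Z_index (i : Fin k) : ((zpowers (z i)).subgroupOf (Z i)).index = 2 := by
  have h1 : Nat.card (zpowers (z i)) = 2 := by
    rw [Nat.card_zpowers]
    exact orderOf_eq_prime (h.ZJ_sq (h.z_ZJ i)) (h.z1 i)
  have h2 := Subgroup.relIndex_mul_relIndex ⊥ (zpowers (z i)) (Z i) bot_le (zpowers_le.2 (h.zZ i))
  rw [Subgroup.relIndex_bot_left, Subgroup.relIndex_bot_left, h1, h.bg.fr.cardZ] at h2
  change (zpowers (z i)).relIndex (Z i) = 2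
  omega

theorem mem_zp {i : Fin k} {w : G} (hw : w ∈ zpowers (z i)) : w = 1 ∨ w = z i := by
  obtain ⟨n, rfl⟩ := mem_zpowers_iff.1 hw
  rcases Int.even_or_odd' n with ⟨m, rfl | rfl⟩
  · left
    rw [zpow_mul]
    have : z i ^ (2 : ℤ) = 1 := by exact_mod_cast h.ZJ_sq (h.z_ZJ i)
    rw [this, one_zpow]
  · right
    rw [zpow_add, zpow_mul]
    have : z i ^ (2 : ℤ) = 1 := by exact_mod_cast h.ZJ_sq (h.z_ZJ i)
    rw [this, one_zpow, one_mul, zpow_one]

theorem exists_p (i : Fin k) : ∃ p ∈ Z i, p ∉ zpowers (z i) := by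
  by_contra hcon
  push Not at hcon
  have h1 := h.Z_index i
  rw [subgroupOf_eq_top.2 hcon, index_top] at h1
  omega

theorem div_mem {i : Fin k} {p w : G} (hp : p ∈ Z i) (hpz : p ∉ zpowers (z i)) (hw : w ∈ Z i)
    (hwz : w ∉ zpowers (z i)) : w * p⁻¹ ∈ zpowers (z i) := by
  have h1 := (Subgroup.mul_mem_iff_of_index_two (h.Z_index i) (a := ⟨w, hw⟩) (b := ⟨p⁻¹, inv_mem hp⟩)).2
  rw [mem_subgroupOf, mem_subgroupOf, mem_subgroupOf] at h1
  exact h1 ⟨fun h2 => absurd h2 hwz, fun h2 => absurd (inv_mem_iff.1 h2) hpz⟩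

/-- `Y_j ∩ N(Z_i)` stabilises `p ⟨z_l : l ≠ j⟩` -/
theorem NZ_St {i j : Fin k} (hij : i ≠ j) {p c : G} (hp : p ∈ Z i) (hpz : p ∉ zpowers (z i)) (hc : c ∈ YY z j)
    (hcZ : c ∈ normalizer (Z i : Set G)) : c ∈ St z j p := by
  refine ⟨hc, ?_⟩
  have hw : c * p * c⁻¹ ∈ Z i := (mem_normalizer_iff.1 hcZ p).1 hp
  have hcz := mem_YY.1 hc i hij
  have hwz : c * p * c⁻¹ ∉ zpowers (z i) := by
    intro h1
    apply hpz
    have h2 : c⁻¹ * (c * p * c⁻¹) * c = c * p * c⁻¹ := by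
      rcases h.mem_zp h1 with e | e
      · rw [e]; group
      · rw [e, mul_assoc, ← hcz]; group
    have e3 : c⁻¹ * (c * p * c⁻¹) * c = p := by group
    rw [← e3, h2]
    exact h1
  exact (zpowers_le.2 (z_ZC hij)) (h.div_mem hp hpz hw hwz)

/-- the stabiliser of `z_j ⟨z_l : l ≠ j⟩` in `Y_j` centralises `z_j` -/
theorem stx {j : Fin k} {c : G} (hc : c ∈ YY z j) (h1 : c * z j * c⁻¹ * (z j)⁻¹ ∈ ZC z j) : c * z j = z j * c := by
  have hcD : ∀ d ∈ DD z, c * d * c⁻¹ ∈ DD z := by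
    intro d hd
    have hdY : d ∈ YY z j := DD_le_CT hd
    refine mem_DD_of (mul_mem (mul_mem hc hdY) (inv_mem hc)) ?_
    set u := c * z j * c⁻¹ * (z j)⁻¹ with hu
    have e1 : c⁻¹ * z j * c = u⁻¹ * z j := by
      have h2 : c * (u⁻¹ * z j) * c⁻¹ = z j := by
        have h3 : c * (u⁻¹ * z j) * c⁻¹ = (c * u⁻¹) * c⁻¹ * (c * z j * c⁻¹) := by group
        rw [h3, YY_ZC hc (inv_mem h1), hu]
        group
      calc c⁻¹ * z j * c = c⁻¹ * (c * (u⁻¹ * z j) * c⁻¹) * c := by rw [h2]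
        _ = u⁻¹ * z j := by group
    have e2 : d * (u⁻¹ * z j) = (u⁻¹ * z j) * d := by
      rw [← mul_assoc, YY_ZC hdY (inv_mem h1), mul_assoc, mem_DD.1 hd j, mul_assoc]
    calc c * d * c⁻¹ * z j = c * (d * (c⁻¹ * z j * c)) * c⁻¹ := by group
      _ = c * ((c⁻¹ * z j * c) * d) * c⁻¹ := by rw [e1, e2]
      _ = z j * (c * d * c⁻¹) := by group
  have h2 : cj c (TT S W) ≤ DD z := by
    rintro _ ⟨t, ht, rfl⟩
    exact hcD t (h.T_D ht)
  obtain ⟨R', hR', hle⟩ := exists_syl (isPGroup_cj c T_two) h2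
  obtain ⟨x, hx, rfl⟩ := syl_conj (h.syl_D h.T_D le_rfl) hR'
  have h3 : cj c (TT S W) = cj x (TT S W) := Subgroup.eq_of_le_of_card_ge hle (by rw [card_cj, card_cj])
  have h4 : x⁻¹ * c ∈ normalizer (TT S W : Set G) := by
    rw [mem_normalizer_iff_cj, ← cj_cj, h3, cj_inv_cj]
  have h5 := (h.norm_T (j := j) (mul_mem (inv_mem (DD_le_CT hx)) hc) h4).1
  have h6 : c ∈ DD z := by
    have := mul_mem hx h5
    rwa [mul_inv_cancel_left] at this
  exact mem_DD.1 h6 j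

theorem Z_NN (i : Fin k) : Z i ≤ NN z i := by
  intro w hw
  by_cases hw1 : w = 1
  · rw [hw1]; exact one_mem _
  obtain ⟨x, hx, -, -, e⟩ := h.tor hw hw1
  rw [← e]
  exact cj_le_EE hx ⟨z i, mem_zpowers _, rfl⟩

/-- **LOW** -/
theorem low (hF : Fr (o2 (DD z)) (DD z) (ZT z) (YY z) (NN z) (LL z Z)) {i j : Fin k} {F₁ F : Subgroup G} {x : G}
    (o : Out (o2 (DD z)) (ZT z) (YY z) (NN z) (LL z Z) i j F₁ F x) :
    F ≤ o2 (YY z j ⊓ centralizer (Z i : Set G)) := by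
  refine o.low hF (Zp := zpowers (z j)) (o2_isPGroup _) (h.Z_NN i) ?_ ?_ (zpowers_le.2 (z_NN z j)) ?_
  · -- `L i` normalises `Y_j ∩ C(Z_i)`
    have key : ∀ g ∈ LL z Z i, cj g (YY z j ⊓ centralizer (Z i : Set G)) ≤ YY z j ⊓ centralizer (Z i : Set G) := by
      rintro g ⟨hgY, hgZ⟩ _ ⟨y, ⟨hy, hyZ⟩, rfl⟩
      have h1 : g * y * g⁻¹ ∈ centralizer (Z i : Set G) := by
        have h2 : cj g (centralizer (Z i : Set G)) = centralizer (Z i : Set G) := by
          rw [cj_centralizer, mem_normalizer_iff_cj.1 hgZ]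
        rw [← h2]
        exact ⟨y, hyZ, rfl⟩
      refine ⟨mem_YY.2 fun l hl => ?_, h1⟩
      by_cases hli : l = i
      · subst hli
        exact (mem_centralizer_iff.1 h1 _ (h.zZ l)).symm
      · have e1 := mem_YY.1 hgY l hli
        have e2 := mem_YY.1 hy l hl
        have e3 : g⁻¹ * z l = z l * g⁻¹ := by
          rw [inv_mul_eq_iff_eq_mul, ← mul_assoc, e1, mul_inv_cancel_right]
        change g * y * g⁻¹ * z l = z l * (g * y * g⁻¹)
        calc g * y * g⁻¹ * z l = g * y * (g⁻¹ * z l) := by group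
          _ = g * (y * z l) * g⁻¹ := by rw [e3]; group
          _ = (g * z l) * y * g⁻¹ := by rw [e2]; group
          _ = z l * (g * y * g⁻¹) := by rw [e1]; group
    exact le_norm_of_cj_le key
  · refine inf_le_left.trans fun g hg => ?_
    exact centralizer_le_normalizer _ (mem_centralizer_iff.2 fun y hy => by
      obtain ⟨n, rfl⟩ := mem_zpowers_iff.1 hy
      exact ((show Commute g (z j) from mem_YY.1 hg j o.ne.symm).zpow_right n).eq.symm)
  · rintro y ⟨hy, hyz⟩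
    exact mem_DD_of hy (mem_centralizer_iff.1 hyz _ (mem_zpowers _)).symm

/-- the input of the end -/
theorem gin (hF : Fr (o2 (DD z)) (DD z) (ZT z) (YY z) (NN z) (LL z Z)) {i j : Fin k} {F₁ F : Subgroup G} {x : G}
    (o : Out (o2 (DD z)) (ZT z) (YY z) (NN z) (LL z Z) i j F₁ F x) (hK : IsKGroup (YY z j)) {p : G} (hp : p ∈ Z i)
    (hpz : p ∉ zpowers (z i)) :
    GInE (TT S W) (YY z j) (EE (ZT z) (YY z i ⊔ YY z j)) (NN z j) (ZC z j) (St z j p) F (z j) p where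
  TC := h.T_Y j
  two := T_two
  syl := Cfsg.Agent.ZN.ChoiceSit.syl_not_dvd (h.syl_Y (h.T_Y j) le_rfl)
  sq n hn := by
    rw [← pow_two]
    exact (eab_iff.1 (hF.Eeab i j o.ne)).2 n hn
  CN := (le_sup_right (a := YY z i)).trans (norm_EE _ _)
  ZN := ZC_ZT.trans (le_EE _ _)
  CZ c hc u hu := YY_ZC hc hu
  xN₀ := z_NN z j
  CN₀ := NN_norm j
  N₀N := hF.NE''
  min U hU hUn := EE_le fun y hy => by
    have h1 : cj y U = U := mem_normalizer_iff_cj.1 (hUn hy)
    rw [← h1]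
    exact cj_mono y (zpowers_le.2 hU)
  pN := hF.NE' (h.Z_NN i hp)
  stx c hc h1 := h.stx hc h1
  sty c hc := ⟨fun h1 => h1.2, fun h1 => ⟨hc, h1⟩⟩
  nx g hg hgT := mem_DD.1 (h.norm_T hg hgT).1 j
  ty t ht := h.NZ_St o.ne hp hpz (h.T_Y j ht) (h.T_Z i ht)
  uni R hR hRY := by
    rcases h.par hR hRY with h1 | h1 | ⟨L', hLR, hRL, -, hLc⟩
    · exact Or.inl h1
    · exact Or.inr fun r hr => h.NZ_St o.ne hp hpz (hRY hr) (h1 i hr)
    · refine Or.inr (hRL.trans (sup_le (fun l hl => ?_) fun t ht => ?_))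
      · exact h.NZ_St o.ne hp hpz (hRY (hLR hl)) (centralizer_le_normalizer _ (hLc i o.ne hl))
      · exact h.NZ_St o.ne hp hpz (h.T_Y j ht) (h.T_Z i ht)
  el a ha := by
    rw [← pow_two]
    exact (eab_iff.1 o.eab).2 a ha
  Ax := by
    have e : YY z j ⊓ centralizer ({z j} : Set G) = DD z := by
      ext y
      rw [mem_inf, mem_centralizer_singleton_iff]
      exact ⟨fun h1 => mem_DD_of h1.1 h1.2, fun h1 => ⟨DD_le_CT h1, mem_DD.1 h1 j⟩⟩
    rw [e]
    exact o.leO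
  Ay := by
    refine (h.low hF o).trans (le_o2 ?_ (o2_isPGroup _) ?_)
    · refine (Cfsg.Agent.ZN.o2_le _).trans ?_
      rintro y ⟨hy, hyZ⟩
      exact h.NZ_St o.ne hp hpz hy (centralizer_le_normalizer _ hyZ)
    · -- `C_{Y_j}(Z_i)` is normal in `St`
      have hY : ∀ y ∈ YY z j, y * p = p * y → y ∈ centralizer (Z i : Set G) := by
        intro y hy hyp
        rw [mem_centralizer_iff]
        intro w hw
        have hyz := mem_YY.1 hy i o.ne
        by_cases hwz : w ∈ zpowers (z i)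
        · rcases h.mem_zp hwz with rfl | rfl
          · simp
          · exact hyz.symm
        · have h1 : w * p⁻¹ ∈ zpowers (z i) := h.div_mem hp hpz hw hwz
          have h2 : w * p⁻¹ * y = y * (w * p⁻¹) := by
            rcases h.mem_zp h1 with e | e
            · rw [e]; simp
            · rw [e]; exact hyz.symm
          calc w * y = w * p⁻¹ * (p * y) := by group
            _ = w * p⁻¹ * y * p := by rw [← hyp]; group
            _ = y * w := by rw [h2]; group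
      have key : ∀ c ∈ St z j p, cj c (YY z j ⊓ centralizer (Z i : Set G)) ≤ YY z j ⊓ centralizer (Z i : Set G) := by
        rintro c hc _ ⟨y, ⟨hy, hyZ⟩, rfl⟩
        have hcy : c * y * c⁻¹ ∈ YY z j := mul_mem (mul_mem hc.1 hy) (inv_mem hc.1)
        refine ⟨hcy, hY _ hcy ?_⟩
        have h1 := (inv_mem hc : c⁻¹ ∈ St z j p).2
        rw [inv_inv] at h1
        generalize hu : c⁻¹ * p * c * p⁻¹ = u at h1
        have e1 : c⁻¹ * p * c = u * p := by rw [← hu]; group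
        have e3 : p * y = y * p := mem_centralizer_iff.1 hyZ p hp
        have e2 : y * (u * p) = u * p * y := by
          rw [← mul_assoc, YY_ZC hy h1, mul_assoc, mul_assoc, e3]
        calc c * y * c⁻¹ * p = c * (y * (c⁻¹ * p * c)) * c⁻¹ := by group
          _ = c * (c⁻¹ * p * c * y) * c⁻¹ := by rw [e1, e2]
          _ = p * (c * y * c⁻¹) := by group
      have hn := le_norm_of_cj_le key
      intro c hc
      rw [mem_normalizer_iff_cj, ← pCore_cj, mem_normalizer_iff_cj.1 (hn hc)]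
  mv := o.mov
  ex := by
    obtain ⟨-, h2, h3⟩ := o.relIndex_eq hF
    rw [h2, h3]
  KC := hK

/-- **contradiction** -/
theorem false_of (h3 : 3 ≤ k) (hML : MLK.{u, u}) (hX : ML.Ex.Two.Ext.{u, u}) (hK : ∀ j, IsKGroup (YY z j)) (hE : NLoc (KZ B ZJ))
    (hp : ∀ i, ∃ f ∈ DD z, f ∈ normalizer (W i : Set G) ∧ f ∉ normalizer (Z i : Set G)) : False := by
  have hF := h.fr h3 hML hK hE hp
  have hO : o2 (DD z) ≠ ⊥ := by
    obtain ⟨j, -⟩ := h.exists_idx
    intro e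
    have h1 := h.NN_O j (z_NN z j)
    rw [e, mem_bot] at h1
    exact h.z1 j h1
  obtain ⟨i, j, F₁, F, x, o⟩ := hF.star hO
  obtain ⟨p, hp, hpz⟩ := h.exists_p i
  exact (h.gin hF o (hK j) hp hpz).false hML hX

end FrK

end Cfsg.Agent.Omega.EK3.FK

end
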